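import Groth.Agent.CAlgMisc2.Spread
import Mathlib.RingTheory.Smooth.NoetherianDescent
import Mathlib.AlgebraicGeometry.Morphisms.Smooth
import Mathlib.AlgebraicGeometry.Morphisms.Preimmersion
import Mathlib.AlgebraicGeometry.Morphisms.Flat

/-!
# Smooth algebras over a local ring come from smooth algebras over the base
-/

universe u

set_option autoImplicit false

open CategoryTheory Limits AlgebraicGeometry TopologicalSpace TensorProduct

namespace Groth.Agent.SpecStalk27

theorem exists_chart_ring (A : Type u) [CommRing A] [IsNoetherianRing A] (p : Ideal A) [p.IsPrime] (T : Type u)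
    [CommRing T] [Algebra A T] [IsLocalization.AtPrime T p] (B' : Type u) [CommRing B'] [Algebra T B']
    [Algebra.Smooth T B'] :
    ∃ (B : Type u) (_ : CommRing B) (_ : Algebra A B) (_ : Algebra.Smooth A B) (f : B →+* B'),
      IsPreimmersion (Spec.map (CommRingCat.ofHom f)) ∧ Flat (Spec.map (CommRingCat.ofHom f)) ∧
        f.comp (algebraMap A B) = (algebraMap T B').comp (algebraMap A T) := by
  obtain ⟨A₀, B₀, _, _, hfg, hsm, ⟨e⟩⟩ := Algebra.Smooth.exists_subalgebra_fg A T B'
  haveI : Algebra.FiniteType A A₀ := (Subalgebra.fg_iff_finiteType A₀).mp hfg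
  haveI : Algebra.FinitePresentation A A₀ := Algebra.FinitePresentation.of_finiteType.mp inferInstance
  let ε : T ≃ₐ[A] Localization.AtPrime p := IsLocalization.algEquiv p.primeCompl T (Localization.AtPrime p)
  obtain ⟨g, hg, φ₁, hφ⟩ := CAlgMisc2.exists_lift_away p (ε.toAlgHom.comp A₀.val)
  let ψ : Localization.Away g →+* T := IsLocalization.Away.lift g (IsLocalization.map_units T (⟨g, hg⟩ : p.primeCompl))
  have hψ : ∀ a, ψ (algebraMap A _ a) = algebraMap A T a := fun a => IsLocalization.Away.lift_eq g _ a
  have hψε : ∀ x, ε (ψ x) = CAlgMisc2.awayToPrime p g hg x := fun x => by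
    refine RingHom.congr_fun (IsLocalization.ringHom_ext (Submonoid.powers g)
      (j := ε.toRingHom.comp ψ) (k := (CAlgMisc2.awayToPrime p g hg).toRingHom) (RingHom.ext fun a => ?_)) x
    show ε (ψ (algebraMap A _ a)) = CAlgMisc2.awayToPrime p g hg (algebraMap A _ a)
    rw [hψ, ε.commutes, AlgHom.commutes]
  letI : Algebra (Localization.Away g) T := ψ.toAlgebra
  haveI : IsScalarTower A (Localization.Away g) T := IsScalarTower.of_algebraMap_eq fun a => (hψ a).symm
  letI : Algebra A₀ (Localization.Away g) := φ₁.toRingHom.toAlgebra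
  haveI : IsScalarTower A₀ (Localization.Away g) T := IsScalarTower.of_algebraMap_eq fun a => ε.injective (by
    show ε (a : T) = ε (ψ (φ₁ a))
    rw [hψε, hφ]; rfl)
  haveI : IsScalarTower A A₀ (Localization.Away g) := IsScalarTower.of_algebraMap_eq fun a => (φ₁.commutes a).symm
  let B := (Localization.Away g) ⊗[A₀] B₀
  letI : Algebra A B := Algebra.TensorProduct.leftAlgebra
  haveI : IsScalarTower A (Localization.Away g) B := inferInstance
  haveI : Algebra.Etale A (Localization.Away g) := inferInstance
  haveI hsB : Algebra.Smooth A B := Algebra.Smooth.comp A (Localization.Away g) B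
  haveI : IsLocalization (Algebra.algebraMapSubmonoid (Localization.Away g) p.primeCompl) T :=
    IsLocalization.isLocalization_of_submonoid_le (Localization.Away g) T (Submonoid.powers g) p.primeCompl
      (by rintro _ ⟨n, rfl⟩; exact pow_mem hg n)
  haveI hp : IsPreimmersion (Spec.map (CommRingCat.ofHom (algebraMap (Localization.Away g) T))) :=
    IsPreimmersion.of_isLocalization (Algebra.algebraMapSubmonoid (Localization.Away g) p.primeCompl)
  haveI hfl : Flat (Spec.map (CommRingCat.ofHom (algebraMap (Localization.Away g) T))) := by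
    rw [HasRingHomProperty.Spec_iff (P := @Flat)]
    exact RingHom.flat_algebraMap_iff.mpr (IsLocalization.flat T (Algebra.algebraMapSubmonoid (Localization.Away g) p.primeCompl))
  let π := pullbackSpecIso (Localization.Away g) B T
  have h1 : IsPreimmersion (Spec.map (CommRingCat.ofHom (algebraMap B (B ⊗[Localization.Away g] T)))) := by
    rw [← pullbackSpecIso_inv_fst']; infer_instance
  have h2 : Flat (Spec.map (CommRingCat.ofHom (algebraMap B (B ⊗[Localization.Away g] T)))) := by
    rw [← pullbackSpecIso_inv_fst']; infer_instance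
  let F : CommRingCat.of (B ⊗[Localization.Away g] T) ⟶ CommRingCat.of B' :=
    CommRingCat.ofHom ((e.symm.toAlgHom.toRingHom.comp
      (Algebra.TensorProduct.cancelBaseChange A₀ (Localization.Away g) T T B₀).toAlgHom.toRingHom).comp
      (Algebra.TensorProduct.comm (Localization.Away g) B T).toAlgHom.toRingHom)
  haveI : IsIso F := (ConcreteCategory.isIso_iff_bijective _).mpr
    ((e.symm.bijective.comp (Algebra.TensorProduct.cancelBaseChange A₀ (Localization.Away g) T T B₀).bijective).comp
      (Algebra.TensorProduct.comm (Localization.Away g) B T).bijective)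
  refine ⟨B, inferInstance, inferInstance, hsB,
    F.hom.comp (algebraMap B (B ⊗[Localization.Away g] T)), ?_, ?_, ?_⟩
  · rw [CommRingCat.ofHom_comp, Spec.map_comp]
    haveI : IsIso (CommRingCat.ofHom F.hom) := inferInstanceAs (IsIso F)
    infer_instance
  · rw [CommRingCat.ofHom_comp, Spec.map_comp]
    haveI : IsIso (CommRingCat.ofHom F.hom) := inferInstanceAs (IsIso F)
    infer_instance
  · refine RingHom.ext fun a => ?_
    show e.symm (Algebra.TensorProduct.cancelBaseChange A₀ (Localization.Away g) T T B₀
      ((algebraMap A B a) |> fun b => (Algebra.TensorProduct.comm (Localization.Away g) B T) (b ⊗ₜ 1))) = _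
    simp only [Algebra.TensorProduct.comm_tmul]
    rw [IsScalarTower.algebraMap_apply A (Localization.Away g) B, Algebra.TensorProduct.algebraMap_apply,
      Algebra.TensorProduct.cancelBaseChange_tmul]
    rw [Algebra.smul_def, mul_one, Algebra.algebraMap_self, RingHom.id_apply, show algebraMap (Localization.Away g) T (algebraMap A _ a) = algebraMap A T a from hψ a]
    exact e.symm.commutes _

end Groth.Agent.SpecStalk27
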