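import Groth.Agent.SpecStalk27.Core
import Groth.Agent.SpecStalk27.Chart

/-!
# The extension property passes to spectra of local rings
-/

universe u

set_option autoImplicit false

open CategoryTheory Limits AlgebraicGeometry TopologicalSpace

namespace Groth.Agent.SpecStalk27

variable {S N : Scheme.{u}} [IsLocallyNoetherian S] {U : S.Opens} {q : N ⟶ S} [LocallyOfFinitePresentation q]
  [LocallyOfFiniteType q] (hE : HasExtension U q) (s : S)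

/-- An affine open of a smooth scheme over the local scheme sits in a smooth scheme over the base. -/
theorem exists_chart {Y' : Scheme.{u}} (p' : Y' ⟶ Spec (S.presheaf.stalk s)) [Smooth p'] (V : Y'.Opens)
    (hV : IsAffineOpen V) :
    ∃ (Y : Scheme.{u}) (j : Spec Γ(Y', V) ⟶ Y) (_ : IsPreimmersion j) (_ : Flat j) (pY : Y ⟶ S) (_ : Smooth pY)
      (_ : IsNoetherian Y), hV.fromSpec ≫ p' ≫ S.fromSpecStalk s = j ≫ pY := by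
  obtain ⟨W, hW, hsW, -⟩ := Opens.isBasis_iff_nbhd.mp S.isBasis_affineOpens (Opens.mem_top s)
  let A := Γ(S, W)
  haveI : IsNoetherianRing A := IsLocallyNoetherian.component_noetherian ⟨W, hW⟩
  letI : Algebra A (S.presheaf.stalk s) := TopCat.Presheaf.algebra_section_stalk S.presheaf (⟨s, hsW⟩ : W)
  haveI := hW.isLocalization_stalk ⟨s, hsW⟩
  let f₀ := Spec.preimage (hV.fromSpec ≫ p')
  have hf₀ : Spec.map f₀ = hV.fromSpec ≫ p' := Spec.map_preimage _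
  have hs : RingHom.Smooth f₀.hom := by
    rw [← HasRingHomProperty.Spec_iff (P := @Smooth), hf₀]
    infer_instance
  letI := f₀.hom.toAlgebra
  haveI : Algebra.Smooth (S.presheaf.stalk s) Γ(Y', V) := hs
  obtain ⟨B, _, _, hsm, f, hpre, hflat, hcomp⟩ :=
    exists_chart_ring A (hW.primeIdealOf ⟨s, hsW⟩).asIdeal (S.presheaf.stalk s) Γ(Y', V)
  haveI : IsNoetherianRing B := Algebra.FiniteType.isNoetherianRing A B
  haveI : Smooth (Spec.map (CommRingCat.ofHom (algebraMap A B))) := by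
    rw [HasRingHomProperty.Spec_iff (P := @Smooth)]
    exact RingHom.smooth_algebraMap.mpr hsm
  refine ⟨Spec (CommRingCat.of B), Spec.map (CommRingCat.ofHom f), hpre, hflat,
    Spec.map (CommRingCat.ofHom (algebraMap A B)) ≫ hW.fromSpec, inferInstance, inferInstance, ?_⟩
  rw [← reassoc_of% hf₀, ← hW.fromSpecStalk_eq_fromSpecStalk hsW, IsAffineOpen.fromSpecStalk]
  have h2 : CommRingCat.ofHom (algebraMap A B) ≫ CommRingCat.ofHom f = S.presheaf.germ W s hsW ≫ f₀ :=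
    CommRingCat.hom_ext hcomp
  rw [← Spec.map_comp_assoc, ← Spec.map_comp_assoc]
  exact congrArg (fun φ => Spec.map φ ≫ hW.fromSpec) h2.symm

include hE in
theorem eq_on_affine {Y' : Scheme.{u}} (p' : Y' ⟶ Spec (S.presheaf.stalk s)) [Smooth p'] (V : Y'.Opens)
    (hV : IsAffineOpen V) (f₁ f₂ : Y' ⟶ N) (h₁ : f₁ ≫ q = p' ≫ S.fromSpecStalk s) (h₂ : f₂ ≫ q = p' ≫ S.fromSpecStalk s)
    (h : ((p' ≫ S.fromSpecStalk s) ⁻¹ᵁ U).ι ≫ f₁ = ((p' ≫ S.fromSpecStalk s) ⁻¹ᵁ U).ι ≫ f₂) :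
    hV.fromSpec ≫ f₁ = hV.fromSpec ≫ f₂ := by
  obtain ⟨Y, j, _, _, pY, _, _, hj⟩ := exists_chart s p' V hV
  refine eq_of_flat_preimmersion hE j pY _ _ (by rw [Category.assoc, h₁, hj]) (by rw [Category.assoc, h₂, hj]) ?_
  let κ : ((j ≫ pY) ⁻¹ᵁ U).toScheme ⟶ ((p' ≫ S.fromSpecStalk s) ⁻¹ᵁ U).toScheme :=
    IsOpenImmersion.lift ((p' ≫ S.fromSpecStalk s) ⁻¹ᵁ U).ι (((j ≫ pY) ⁻¹ᵁ U).ι ≫ hV.fromSpec) (by
      rintro _ ⟨z, rfl⟩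
      rw [Scheme.Opens.range_ι]
      have e : (hV.fromSpec ≫ p' ≫ S.fromSpecStalk s) z.1 = (j ≫ pY) z.1 := congr($hj z.1)
      exact (congrArg (fun x => x ∈ U) e).mpr z.2)
  have hκ : κ ≫ ((p' ≫ S.fromSpecStalk s) ⁻¹ᵁ U).ι = ((j ≫ pY) ⁻¹ᵁ U).ι ≫ hV.fromSpec :=
    IsOpenImmersion.lift_fac _ _ _
  rw [← reassoc_of% hκ, ← reassoc_of% hκ, h]

include hE in
theorem hom_ext_of_hasExtension {Y' : Scheme.{u}} (p' : Y' ⟶ Spec (S.presheaf.stalk s)) [Smooth p']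
    (f₁ f₂ : Y' ⟶ N) (h₁ : f₁ ≫ q = p' ≫ S.fromSpecStalk s) (h₂ : f₂ ≫ q = p' ≫ S.fromSpecStalk s)
    (h : ((p' ≫ S.fromSpecStalk s) ⁻¹ᵁ U).ι ≫ f₁ = ((p' ≫ S.fromSpecStalk s) ⁻¹ᵁ U).ι ≫ f₂) : f₁ = f₂ := by
  refine (Y'.openCoverOfIsOpenCover _ (show IsOpenCover (fun V : Y'.affineOpens => V.1) from iSup_affineOpens_eq_top Y')).hom_ext _ _ fun (V : Y'.affineOpens) => ?_
  show V.1.ι ≫ f₁ = V.1.ι ≫ f₂
  have := eq_on_affine hE s p' V.1 V.2 f₁ f₂ h₁ h₂ h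
  rwa [← V.2.isoSpec_inv_ι, Category.assoc, Category.assoc, cancel_epi] at this

include hE in
/-- The extension property passes to the spectrum of a local ring. -/
theorem existsUnique_over_stalk {Y' : Scheme.{u}} (p' : Y' ⟶ Spec (S.presheaf.stalk s)) [Smooth p']
    (g : ((p' ≫ S.fromSpecStalk s) ⁻¹ᵁ U).toScheme ⟶ N)
    (hg : g ≫ q = ((p' ≫ S.fromSpecStalk s) ⁻¹ᵁ U).ι ≫ p' ≫ S.fromSpecStalk s) :
    ∃! f : Y' ⟶ N, f ≫ q = p' ≫ S.fromSpecStalk s ∧ ((p' ≫ S.fromSpecStalk s) ⁻¹ᵁ U).ι ≫ f = g := by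
  let pS : Y' ⟶ S := p' ≫ S.fromSpecStalk s
  let res : (V : Y'.Opens) → ((V.ι ≫ pS) ⁻¹ᵁ U).toScheme ⟶ (pS ⁻¹ᵁ U).toScheme := fun V =>
    IsOpenImmersion.lift (pS ⁻¹ᵁ U).ι (((V.ι ≫ pS) ⁻¹ᵁ U).ι ≫ V.ι) (by
      rintro _ ⟨z, rfl⟩
      rw [Scheme.Opens.range_ι]
      exact z.2)
  have hres : ∀ V : Y'.Opens, res V ≫ (pS ⁻¹ᵁ U).ι = ((V.ι ≫ pS) ⁻¹ᵁ U).ι ≫ V.ι := fun V => IsOpenImmersion.lift_fac _ _ _
  have loc : ∀ V : Y'.affineOpens, ∃ f : V.1.toScheme ⟶ N, f ≫ q = V.1.ι ≫ pS ∧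
      ((V.1.ι ≫ pS) ⁻¹ᵁ U).ι ≫ f = res V.1 ≫ g := by
    intro V
    obtain ⟨Y, j, _, _, pY, _, _, hj⟩ := exists_chart s p' V.1 V.2
    let κ : ((j ≫ pY) ⁻¹ᵁ U).toScheme ⟶ (pS ⁻¹ᵁ U).toScheme :=
      IsOpenImmersion.lift (pS ⁻¹ᵁ U).ι (((j ≫ pY) ⁻¹ᵁ U).ι ≫ V.2.fromSpec) (by
        rintro _ ⟨z, rfl⟩
        rw [Scheme.Opens.range_ι]
        have e : (V.2.fromSpec ≫ p' ≫ S.fromSpecStalk s) z.1 = (j ≫ pY) z.1 := congr($hj z.1)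
        exact (congrArg (fun x => x ∈ U) e).mpr z.2)
    have hκ : κ ≫ (pS ⁻¹ᵁ U).ι = ((j ≫ pY) ⁻¹ᵁ U).ι ≫ V.2.fromSpec := IsOpenImmersion.lift_fac _ _ _
    obtain ⟨f, hf, hfU⟩ := exists_of_flat_preimmersion hE j pY (κ ≫ g) (by
      rw [Category.assoc, hg, reassoc_of% hκ]
      exact congrArg (((j ≫ pY) ⁻¹ᵁ U).ι ≫ ·) hj)
    refine ⟨V.2.isoSpec.hom ≫ f, ?_, ?_⟩
    · rw [Category.assoc, hf, ← hj, ← V.2.isoSpec_inv_ι, Category.assoc, Iso.hom_inv_id_assoc]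
    · have hfs : V.2.isoSpec.hom ≫ V.2.fromSpec = V.1.ι := by rw [← V.2.isoSpec_inv_ι, Iso.hom_inv_id_assoc]
      let μ : ((V.1.ι ≫ pS) ⁻¹ᵁ U).toScheme ⟶ ((j ≫ pY) ⁻¹ᵁ U).toScheme :=
        IsOpenImmersion.lift ((j ≫ pY) ⁻¹ᵁ U).ι (((V.1.ι ≫ pS) ⁻¹ᵁ U).ι ≫ V.2.isoSpec.hom) (by
          rintro _ ⟨z, rfl⟩
          rw [Scheme.Opens.range_ι]
          show (j ≫ pY) (V.2.isoSpec.hom z.1) ∈ U
          have e : V.2.fromSpec (V.2.isoSpec.hom z.1) = V.1.ι z.1 := congr($hfs z.1)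
          have e2 : (V.2.fromSpec ≫ p' ≫ S.fromSpecStalk s) (V.2.isoSpec.hom z.1) = (j ≫ pY) (V.2.isoSpec.hom z.1) :=
            congr($hj (V.2.isoSpec.hom z.1))
          refine (congrArg (fun x => x ∈ U) e2).mp ?_
          show (p' ≫ S.fromSpecStalk s) (V.2.fromSpec (V.2.isoSpec.hom z.1)) ∈ U
          rw [e]
          exact z.2)
      have hμ : μ ≫ ((j ≫ pY) ⁻¹ᵁ U).ι = ((V.1.ι ≫ pS) ⁻¹ᵁ U).ι ≫ V.2.isoSpec.hom := IsOpenImmersion.lift_fac _ _ _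
      have hμκ : μ ≫ κ = res V.1 := by
        rw [← cancel_mono (pS ⁻¹ᵁ U).ι, Category.assoc, hκ, reassoc_of% hμ, hres, hfs]
      rw [← reassoc_of% hμ, hfU, reassoc_of% hμκ]
  choose f hf hfU using loc
  have key : ∀ V V' : Y'.affineOpens, Y'.homOfLE (inf_le_left : V.1 ⊓ V'.1 ≤ V.1) ≫ f V =
      Y'.homOfLE (inf_le_right : V.1 ⊓ V'.1 ≤ V'.1) ≫ f V' := by
    intro V V'
    refine hom_ext_of_hasExtension hE s ((V.1 ⊓ V'.1).ι ≫ p') _ _ ?_ ?_ ?_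
    · rw [Category.assoc, hf, Scheme.homOfLE_ι_assoc, Category.assoc]
    · rw [Category.assoc, hf, Scheme.homOfLE_ι_assoc, Category.assoc]
    let O := (((V.1 ⊓ V'.1).ι ≫ p') ≫ S.fromSpecStalk s) ⁻¹ᵁ U
    let o : (W : Y'.Opens) → (h : V.1 ⊓ V'.1 ≤ W) → O.toScheme ⟶ ((W.ι ≫ pS) ⁻¹ᵁ U).toScheme := fun W h =>
      IsOpenImmersion.lift ((W.ι ≫ pS) ⁻¹ᵁ U).ι (O.ι ≫ Y'.homOfLE h) (by
        rintro _ ⟨z, rfl⟩
        rw [Scheme.Opens.range_ι]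
        have hz : (((V.1 ⊓ V'.1).ι ≫ p') ≫ S.fromSpecStalk s) z.1 ∈ U := z.2
        rw [← Scheme.homOfLE_ι Y' h] at hz
        exact hz)
    have ho : ∀ W h, o W h ≫ ((W.ι ≫ pS) ⁻¹ᵁ U).ι = O.ι ≫ Y'.homOfLE h := fun W h => IsOpenImmersion.lift_fac _ _ _
    have e : o V.1 inf_le_left ≫ res V.1 = o V'.1 inf_le_right ≫ res V'.1 := by
      rw [← cancel_mono (pS ⁻¹ᵁ U).ι, Category.assoc, Category.assoc, hres, hres, reassoc_of% ho, reassoc_of% ho,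
        Scheme.homOfLE_ι, Scheme.homOfLE_ι]
    show O.ι ≫ Y'.homOfLE _ ≫ f V = O.ι ≫ Y'.homOfLE _ ≫ f V'
    rw [← reassoc_of% ho V.1 inf_le_left, ← reassoc_of% ho V'.1 inf_le_right, hfU, hfU, reassoc_of% e]
  obtain ⟨F, hF⟩ := exists_glue (fun V : Y'.affineOpens => V.1) f key
  have htop : (⨆ V : Y'.affineOpens, V.1) = ⊤ := iSup_affineOpens_eq_top Y'
  let F' : Y' ⟶ N := Y'.topIso.inv ≫ Y'.homOfLE htop.ge ≫ F
  have hF' : ∀ V : Y'.affineOpens, V.1.ι ≫ F' = f V := fun V => by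
    have e : V.1.ι ≫ Y'.topIso.inv ≫ Y'.homOfLE htop.ge = Y'.homOfLE (le_iSup (fun V : Y'.affineOpens => V.1) V) := by
      rw [← cancel_mono (⨆ V : Y'.affineOpens, V.1).ι]
      simp only [Category.assoc, Scheme.homOfLE_ι]
      rw [show Y'.topIso.inv ≫ (⊤ : Y'.Opens).ι = 𝟙 Y' from Y'.topIso.inv_hom_id, Category.comp_id]
    show V.1.ι ≫ Y'.topIso.inv ≫ Y'.homOfLE htop.ge ≫ F = f V
    rw [reassoc_of% e, hF]
  have hq : F' ≫ q = pS :=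
    (Y'.openCoverOfIsOpenCover _ (show IsOpenCover (fun V : Y'.affineOpens => V.1) from iSup_affineOpens_eq_top Y')).hom_ext _ _ fun (V : Y'.affineOpens) => by
      show V.1.ι ≫ F' ≫ q = V.1.ι ≫ pS
      rw [reassoc_of% hF', hf]
  suffices hU : (pS ⁻¹ᵁ U).ι ≫ F' = g from
    ⟨F', ⟨hq, hU⟩, fun f' hf' => hom_ext_of_hasExtension hE s p' f' F' hf'.1 hq (hf'.2.trans hU.symm)⟩
  · let 𝒰 := (Y'.openCoverOfIsOpenCover _ (show IsOpenCover (fun V : Y'.affineOpens => V.1) from iSup_affineOpens_eq_top Y')).pullback₁ (pS ⁻¹ᵁ U).ι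
    refine Scheme.Cover.hom_ext 𝒰 _ _ fun (V : Y'.affineOpens) => ?_
    show pullback.fst (pS ⁻¹ᵁ U).ι V.1.ι ≫ (pS ⁻¹ᵁ U).ι ≫ F' = pullback.fst (pS ⁻¹ᵁ U).ι V.1.ι ≫ g
    rw [pullback.condition_assoc, hF']
    let ν : pullback (pS ⁻¹ᵁ U).ι V.1.ι ⟶ ((V.1.ι ≫ pS) ⁻¹ᵁ U).toScheme :=
      IsOpenImmersion.lift ((V.1.ι ≫ pS) ⁻¹ᵁ U).ι (pullback.snd _ _) (by
        rintro _ ⟨z, rfl⟩
        rw [Scheme.Opens.range_ι]
        have e : V.1.ι (pullback.snd (pS ⁻¹ᵁ U).ι V.1.ι z) = (pS ⁻¹ᵁ U).ι (pullback.fst (pS ⁻¹ᵁ U).ι V.1.ι z) := by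
          rw [← Scheme.Hom.comp_apply, ← pullback.condition]; rfl
        show pS (V.1.ι (pullback.snd (pS ⁻¹ᵁ U).ι V.1.ι z)) ∈ U
        rw [e]
        exact (pullback.fst (pS ⁻¹ᵁ U).ι V.1.ι z).2)
    have hν : ν ≫ ((V.1.ι ≫ pS) ⁻¹ᵁ U).ι = pullback.snd _ _ := IsOpenImmersion.lift_fac _ _ _
    have hν' : ν ≫ res V.1 = pullback.fst (pS ⁻¹ᵁ U).ι V.1.ι := by
      rw [← cancel_mono (pS ⁻¹ᵁ U).ι, Category.assoc, hres, reassoc_of% hν, pullback.condition]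
    rw [← reassoc_of% hν, hfU, reassoc_of% hν']

end Groth.Agent.SpecStalk27
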