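import Groth.Agent.SpecStalk27.Thicken
import Mathlib.AlgebraicGeometry.Morphisms.Smooth

/-!
# Extension property transported to flat preimmersed subschemes of smooth schemes
-/

universe u

set_option autoImplicit false

open CategoryTheory Limits AlgebraicGeometry TopologicalSpace

namespace Groth.Agent.SpecStalk27

variable {S N : Scheme.{u}} (U : S.Opens) (q : N ⟶ S)

/-- Unique extension over `S` of morphisms given over `U`. -/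
def HasExtension : Prop :=
  ∀ (Y : Scheme.{u}) (p : Y ⟶ S), Smooth p → ∀ (g : (p ⁻¹ᵁ U).toScheme ⟶ N), g ≫ q = (p ⁻¹ᵁ U).ι ≫ p →
    ∃! f : Y ⟶ N, f ≫ q = p ∧ (p ⁻¹ᵁ U).ι ≫ f = g

theorem hasExtension_of_bijective (N' : Over S)
    (hN : ∀ Y : Over S, Smooth Y.hom → Function.Bijective (fun f : Y ⟶ N' => (Over.pullback U.ι).map f)) :
    HasExtension U N'.hom := by
  intro Y p hp g hg
  obtain ⟨h1, h2⟩ := hN (Over.mk p) hp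
  let e := (isPullback_morphismRestrict p U).flip.isoPullback
  have he1 : e.hom ≫ pullback.fst p U.ι = (p ⁻¹ᵁ U).ι := IsPullback.isoPullback_hom_fst _
  have he2 : e.hom ≫ pullback.snd p U.ι = p ∣_ U := IsPullback.isoPullback_hom_snd _
  have hcomp : ∀ f : Over.mk p ⟶ N', e.hom ≫ ((Over.pullback U.ι).map f).left ≫ pullback.fst N'.hom U.ι =
      (p ⁻¹ᵁ U).ι ≫ f.left := fun f => by
    rw [show ((Over.pullback U.ι).map f).left ≫ pullback.fst N'.hom U.ι = pullback.fst p U.ι ≫ f.left from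
      pullback.lift_fst _ _ _, reassoc_of% he1]
  let G : (Over.pullback U.ι).obj (Over.mk p) ⟶ (Over.pullback U.ι).obj N' :=
    Over.homMk (pullback.lift (e.inv ≫ g) (pullback.snd p U.ι) (by
      rw [Category.assoc, hg, Iso.inv_comp_eq, ← reassoc_of% he1, pullback.condition])) (pullback.lift_snd _ _ _)
  obtain ⟨f, hf⟩ := h2 G
  refine ⟨f.left, ⟨Over.w f, ?_⟩, fun f' hf' => ?_⟩
  · rw [← hcomp, show (Over.pullback U.ι).map f = G from hf]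
    exact (congrArg (e.hom ≫ ·) (pullback.lift_fst _ _ _)).trans (e.hom_inv_id_assoc g)
  · have hh : (Over.pullback U.ι).map (Over.homMk f' hf'.1 : Over.mk p ⟶ N') = G := by
      refine Over.OverMorphism.ext (pullback.hom_ext ?_ ?_)
      · rw [← cancel_epi e.hom]
        refine (hcomp _).trans ?_
        rw [show (Over.homMk f' hf'.1 : Over.mk p ⟶ N').left = f' from rfl, hf'.2]
        exact ((congrArg (e.hom ≫ ·) (pullback.lift_fst _ _ _)).trans (e.hom_inv_id_assoc g)).symm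
      · exact (pullback.lift_snd _ _ _).trans (pullback.lift_snd _ _ _).symm
    exact congrArg CommaMorphism.left (h1 (hh.trans hf.symm))

variable {U q} [IsLocallyNoetherian S] [LocallyOfFinitePresentation q] [LocallyOfFiniteType q]
  (hE : HasExtension U q) {Z Y : Scheme.{u}} (j : Z ⟶ Y) [IsPreimmersion j] [Flat j] (pY : Y ⟶ S) [Smooth pY]
  [IsNoetherian Y]

include hE in
theorem eq_of_flat_preimmersion (f₁ f₂ : Z ⟶ N) (h₁ : f₁ ≫ q = j ≫ pY) (h₂ : f₂ ≫ q = j ≫ pY)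
    (h : ((j ≫ pY) ⁻¹ᵁ U).ι ≫ f₁ = ((j ≫ pY) ⁻¹ᵁ U).ι ≫ f₂) : f₁ = f₂ := by
  obtain ⟨G₁, j₁, F₁, e₁, q₁, r₁⟩ := exists_extension j q pY f₁ h₁
  obtain ⟨G₂, j₂, F₂, e₂, q₂, r₂⟩ := exists_extension j q pY f₂ h₂
  let V : Y.Opens := G₁ ⊓ G₂ ⊓ pY ⁻¹ᵁ U
  have hG : ∀ z, j z ∈ G₁ ⊓ G₂ := fun z => ⟨e₁ ▸ (j₁ z).2, e₂ ▸ (j₂ z).2⟩
  have hV1 : V ≤ G₁ := inf_le_left.trans inf_le_left
  have hV2 : V ≤ G₂ := inf_le_left.trans inf_le_right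
  obtain ⟨O, hO, hOe⟩ := exists_open_eq (j ∣_ V) q (V.ι ≫ pY) (Y.homOfLE hV1 ≫ F₁) (Y.homOfLE hV2 ≫ F₂)
    (by rw [Category.assoc, q₁, Scheme.homOfLE_ι_assoc]) (by rw [Category.assoc, q₂, Scheme.homOfLE_ι_assoc]) (by
      have a1 : (j ∣_ V) ≫ Y.homOfLE hV1 = (j ⁻¹ᵁ V).ι ≫ j₁ := by rw [← cancel_mono G₁.ι]; simp [e₁]
      have a2 : (j ∣_ V) ≫ Y.homOfLE hV2 = (j ⁻¹ᵁ V).ι ≫ j₂ := by rw [← cancel_mono G₂.ι]; simp [e₂]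
      have a3 : (j ⁻¹ᵁ V).ι = Z.homOfLE (fun _ h => h.2 : j ⁻¹ᵁ V ≤ (j ≫ pY) ⁻¹ᵁ U) ≫ ((j ≫ pY) ⁻¹ᵁ U).ι :=
        (Scheme.homOfLE_ι _ _).symm
      rw [reassoc_of% a1, reassoc_of% a2, r₁, r₂, a3, Category.assoc, Category.assoc, h])
  let bad : Set Y := closure ((V : Set Y) ∩ (V.ι ''ᵁ O : Set Y)ᶜ)
  have hgood : ∀ z, j z ∉ bad := fun z => disjoint_closure j V _ (V.ι ''ᵁ O).2.isClosed_compl
    (fun w hw hc => hc ⟨(j ∣_ V) ⟨w, hw⟩, hO ⟨w, hw⟩, congr($(morphismRestrict_ι j V) ⟨w, hw⟩)⟩) z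
  let Y₁ : Y.Opens := G₁ ⊓ G₂ ⊓ ⟨badᶜ, isClosed_closure.isOpen_compl⟩
  let c₁ : Y₁.toScheme ⟶ N := Y.homOfLE (inf_le_left.trans inf_le_left) ≫ F₁
  let c₂ : Y₁.toScheme ⟶ N := Y.homOfLE (inf_le_left.trans inf_le_right) ≫ F₂
  have hsm : Smooth (Y₁.ι ≫ pY) := inferInstance
  have hc₁ : c₁ ≫ q = Y₁.ι ≫ pY := by simp [c₁, q₁]
  have hc₂ : c₂ ≫ q = Y₁.ι ≫ pY := by simp [c₂, q₂]
  have hcU : ((Y₁.ι ≫ pY) ⁻¹ᵁ U).ι ≫ c₁ = ((Y₁.ι ≫ pY) ⁻¹ᵁ U).ι ≫ c₂ := by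
    let κ : ((Y₁.ι ≫ pY) ⁻¹ᵁ U).toScheme ⟶ O.toScheme := IsOpenImmersion.lift (O.ι ≫ V.ι)
      (((Y₁.ι ≫ pY) ⁻¹ᵁ U).ι ≫ Y₁.ι) (by
        rintro _ ⟨y, rfl⟩
        have hy1 : y.1.1 ∈ Y₁ := y.1.2
        by_contra hn
        refine hy1.2 (subset_closure ⟨⟨hy1.1, y.2⟩, fun hm => hn ?_⟩)
        obtain ⟨o, ho, hoy⟩ := hm
        exact ⟨⟨o, ho⟩, hoy⟩)
    have hκ : κ ≫ O.ι ≫ V.ι = ((Y₁.ι ≫ pY) ⁻¹ᵁ U).ι ≫ Y₁.ι := IsOpenImmersion.lift_fac _ _ _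
    have b1 : ((Y₁.ι ≫ pY) ⁻¹ᵁ U).ι ≫ Y.homOfLE (inf_le_left.trans inf_le_left : Y₁ ≤ G₁) = κ ≫ O.ι ≫ Y.homOfLE hV1 := by
      rw [← cancel_mono G₁.ι]; simp only [Category.assoc, Scheme.homOfLE_ι]; exact hκ.symm
    have b2 : ((Y₁.ι ≫ pY) ⁻¹ᵁ U).ι ≫ Y.homOfLE (inf_le_left.trans inf_le_right : Y₁ ≤ G₂) = κ ≫ O.ι ≫ Y.homOfLE hV2 := by
      rw [← cancel_mono G₂.ι]; simp only [Category.assoc, Scheme.homOfLE_ι]; exact hκ.symm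
    simp only [c₁, c₂, reassoc_of% b1, reassoc_of% b2, hOe]
  obtain ⟨c, -, hcu⟩ := hE _ (Y₁.ι ≫ pY) hsm (((Y₁.ι ≫ pY) ⁻¹ᵁ U).ι ≫ c₁) (by rw [Category.assoc, hc₁])
  have hcc : c₁ = c₂ := (hcu c₁ ⟨hc₁, rfl⟩).trans (hcu c₂ ⟨hc₂, hcU.symm⟩).symm
  let l : Z ⟶ Y₁.toScheme := IsOpenImmersion.lift Y₁.ι j (by
    rintro _ ⟨z, rfl⟩; rw [Scheme.Opens.range_ι]; exact ⟨hG z, hgood z⟩)
  have hl : l ≫ Y₁.ι = j := IsOpenImmersion.lift_fac _ _ _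
  have l1 : l ≫ Y.homOfLE (inf_le_left.trans inf_le_left : Y₁ ≤ G₁) = j₁ := by rw [← cancel_mono G₁.ι]; simp [hl, e₁]
  have l2 : l ≫ Y.homOfLE (inf_le_left.trans inf_le_right : Y₁ ≤ G₂) = j₂ := by rw [← cancel_mono G₂.ι]; simp [hl, e₂]
  rw [← r₁, ← r₂, ← l1, ← l2, Category.assoc, Category.assoc]
  exact congrArg (l ≫ ·) hcc

include hE in
theorem exists_of_flat_preimmersion (g : ((j ≫ pY) ⁻¹ᵁ U).toScheme ⟶ N)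
    (hg : g ≫ q = ((j ≫ pY) ⁻¹ᵁ U).ι ≫ j ≫ pY) :
    ∃ f : Z ⟶ N, f ≫ q = j ≫ pY ∧ ((j ≫ pY) ⁻¹ᵁ U).ι ≫ f = g := by
  let V : Y.Opens := pY ⁻¹ᵁ U
  haveI : NoetherianSpace V.toScheme := (V.ι.isOpenEmbedding.toIsInducing).noetherianSpace
  obtain ⟨G, jG, F, eG, qG, rG⟩ := exists_extension (j ∣_ V) q (V.ι ≫ pY) g (by
    rw [morphismRestrict_ι_assoc]; exact hg)
  let bad : Set Y := closure ((V : Set Y) ∩ (V.ι ''ᵁ G : Set Y)ᶜ)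
  have hgood : ∀ z, j z ∉ bad := fun z => disjoint_closure j V _ (V.ι ''ᵁ G).2.isClosed_compl
    (fun w hw hc => hc ⟨(j ∣_ V) ⟨w, hw⟩, (congr($eG ⟨w, hw⟩) : _ = (j ∣_ V) ⟨w, hw⟩) ▸ (jG ⟨w, hw⟩).2,
      congr($(morphismRestrict_ι j V) ⟨w, hw⟩)⟩) z
  let Y₁ : Y.Opens := ⟨badᶜ, isClosed_closure.isOpen_compl⟩
  have hsm : Smooth (Y₁.ι ≫ pY) := inferInstance
  let κ : ((Y₁.ι ≫ pY) ⁻¹ᵁ U).toScheme ⟶ G.toScheme := IsOpenImmersion.lift (G.ι ≫ V.ι)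
    (((Y₁.ι ≫ pY) ⁻¹ᵁ U).ι ≫ Y₁.ι) (by
      rintro _ ⟨y, rfl⟩
      by_contra hn
      refine y.1.2 (subset_closure ⟨y.2, fun hm => hn ?_⟩)
      obtain ⟨o, ho, hoy⟩ := hm
      exact ⟨⟨o, ho⟩, hoy⟩)
  have hκ : κ ≫ G.ι ≫ V.ι = ((Y₁.ι ≫ pY) ⁻¹ᵁ U).ι ≫ Y₁.ι := IsOpenImmersion.lift_fac _ _ _
  obtain ⟨c, ⟨hcq, hcU⟩, -⟩ := hE _ (Y₁.ι ≫ pY) hsm (κ ≫ F) (by
    rw [Category.assoc, qG, reassoc_of% hκ])
  let l : Z ⟶ Y₁.toScheme := IsOpenImmersion.lift Y₁.ι j (by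
    rintro _ ⟨z, rfl⟩; rw [Scheme.Opens.range_ι]; exact hgood z)
  have hl : l ≫ Y₁.ι = j := IsOpenImmersion.lift_fac _ _ _
  refine ⟨l ≫ c, by rw [Category.assoc, hcq, reassoc_of% hl], ?_⟩
  let lU : ((j ≫ pY) ⁻¹ᵁ U).toScheme ⟶ ((Y₁.ι ≫ pY) ⁻¹ᵁ U).toScheme :=
    IsOpenImmersion.lift ((Y₁.ι ≫ pY) ⁻¹ᵁ U).ι (((j ≫ pY) ⁻¹ᵁ U).ι ≫ l) (by
      rintro _ ⟨z, rfl⟩
      rw [Scheme.Opens.range_ι]
      have hz : pY (j z.1) ∈ U := z.2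
      have e : Y₁.ι (l z.1) = j z.1 := congr($hl z.1)
      show pY (Y₁.ι (l z.1)) ∈ U
      rw [e]; exact hz)
  have hlU : lU ≫ ((Y₁.ι ≫ pY) ⁻¹ᵁ U).ι = ((j ≫ pY) ⁻¹ᵁ U).ι ≫ l := IsOpenImmersion.lift_fac _ _ _
  have hk : lU ≫ κ = jG := by
    rw [← cancel_mono G.ι, ← cancel_mono V.ι, Category.assoc, Category.assoc, hκ, reassoc_of% hlU, hl]
    exact (morphismRestrict_ι j V).symm.trans (congrArg (· ≫ V.ι) eG.symm)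
  rw [← reassoc_of% hlU, hcU, ← Category.assoc, hk]
  exact rG

end Groth.Agent.SpecStalk27
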