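import Groth.Agent.EtLib9.StalkSpread
import Mathlib.AlgebraicGeometry.Morphisms.Preimmersion
import Mathlib.AlgebraicGeometry.Morphisms.Flat
import Mathlib.AlgebraicGeometry.Noetherian

/-!
# Morphisms from flat preimmersed subschemes spread to open neighbourhoods
-/

universe u

set_option autoImplicit false

open CategoryTheory Limits AlgebraicGeometry TopologicalSpace

namespace Groth.Agent.SpecStalk27

variable {Z Y S N : Scheme.{u}} (j : Z ⟶ Y) [IsPreimmersion j] [Flat j] (q : N ⟶ S) (pY : Y ⟶ S)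

theorem isIso_stalkMap (z : Z) : IsIso (j.stalkMap z) := by
  letI : Algebra (Y.presheaf.stalk (j z)) (Z.presheaf.stalk z) := (j.stalkMap z).hom.toAlgebra
  haveI : Module.Flat (Y.presheaf.stalk (j z)) (Z.presheaf.stalk z) := Flat.stalkMap j z
  haveI : IsLocalHom (algebraMap (Y.presheaf.stalk (j z)) (Z.presheaf.stalk z)) :=
    inferInstanceAs (IsLocalHom (j.stalkMap z).hom)
  haveI := Module.FaithfullyFlat.of_flat_of_isLocalHom (A := Y.presheaf.stalk (j z)) (B := Z.presheaf.stalk z)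
  exact (ConcreteCategory.isIso_iff_bijective _).mpr
    ⟨FaithfulSMul.algebraMap_injective (Y.presheaf.stalk (j z)) (Z.presheaf.stalk z),
      j.stalkMap_surjective z⟩

/-- The range of a flat morphism is stable under generalisation. -/
theorem mem_range_of_specializes {a b : Y} (h : a ⤳ b) (hb : b ∈ Set.range j) : a ∈ Set.range j := by
  obtain ⟨z, rfl⟩ := hb
  obtain ⟨w, -, hw⟩ := Flat.generalizingMap j h
  exact ⟨w, hw⟩

/-- A locally closed set disjoint from a generalisation-stable range has closure disjoint from it. -/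
theorem disjoint_closure [NoetherianSpace Y] (O : Y.Opens) (C : Set Y) (hC : IsClosed C)
    (hd : ∀ z : Z, j z ∈ O → j z ∉ C) (z : Z) : j z ∉ closure ((O : Set Y) ∩ C) := by
  intro hz
  obtain ⟨T, hTc, hirr, heq⟩ := NoetherianSpace.exists_finite_set_closeds_irreducible
    (⟨closure ((O : Set Y) ∩ C), isClosed_closure⟩ : Closeds Y)
  have hunion : closure ((O : Set Y) ∩ C) = ⋃ t ∈ T, (t : Set Y) := by
    have h0 : IsClosed (⋃ t ∈ T, (t : Set Y)) := hTc.isClosed_biUnion fun t _ => t.2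
    have := congrArg (fun c : Closeds Y => (c : Set Y)) heq
    simpa [Closeds.coe_sSup, h0.closure_eq] using this
  rw [hunion] at hz
  obtain ⟨t₀, ht₀, hzt₀⟩ := Set.mem_iUnion₂.1 hz
  obtain ⟨t, ⟨ht, hzt⟩, hmax⟩ :=
    (hTc.subset (fun t (ht : t ∈ {t | t ∈ T ∧ j z ∈ (t : Set Y)}) => ht.1)).exists_maximal ⟨t₀, ht₀, hzt₀⟩
  by_cases hm : ((t : Set Y) ∩ O).Nonempty
  · have hc : IsGenericPoint (hirr t ht).genericPoint (t : Set Y) := by
      have := (hirr t ht).isGenericPoint_genericPoint_closure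
      rwa [show closure (t : Set Y) = t from t.2.closure_eq] at this
    have hcO : (hirr t ht).genericPoint ∈ O := (hc.mem_open_set_iff O.2).2 hm
    have hcC : (hirr t ht).genericPoint ∈ C :=
      (closure_minimal Set.inter_subset_right hC) (hunion.symm ▸ Set.mem_biUnion ht hc.mem)
    obtain ⟨w, hw⟩ := mem_range_of_specializes j (hc.specializes hzt) ⟨z, rfl⟩
    exact hd w (hw ▸ hcO) (hw ▸ hcC)
  · have hE : (O : Set Y) ∩ C ⊆ ⋃ s ∈ T \ {t}, (s : Set Y) := fun y hy => by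
      obtain ⟨s, hs, hys⟩ := Set.mem_iUnion₂.1 (hunion ▸ subset_closure hy)
      exact Set.mem_biUnion ⟨hs, fun h => hm ⟨y, h ▸ hys, hy.1⟩⟩ hys
    have hfin : (T \ {t}).Finite := hTc.sdiff
    have hsub : (t : Set Y) ⊆ ⋃ s ∈ T \ {t}, (s : Set Y) :=
      (Set.subset_biUnion_of_mem (u := fun s : Closeds Y => (s : Set Y)) ht).trans
        (hunion ▸ closure_minimal hE (hfin.isClosed_biUnion fun s _ => s.2))
    rw [← Set.sUnion_image] at hsub
    obtain ⟨_, hs', hts⟩ := (isIrreducible_iff_sUnion_isClosed.1 (hirr t ht)) (hfin.image _).toFinset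
      (fun _ h => by obtain ⟨s, -, rfl⟩ := (Set.Finite.mem_toFinset _).1 h; exact s.2)
      (by rwa [Set.Finite.coe_toFinset])
    obtain ⟨s, ⟨hs, hne⟩, rfl⟩ := (Set.Finite.mem_toFinset _).1 hs'
    exact hne (le_antisymm (hmax ⟨hs, hts hzt⟩ hts) hts)

variable [LocallyOfFiniteType q]

theorem exists_nhd_eq_of_comp_eq (f g : Y ⟶ N) (hf : f ≫ q = pY) (hg : g ≫ q = pY) (z : Z)
    (h : j ≫ f = j ≫ g) : ∃ O : Y.Opens, j z ∈ O ∧ O.ι ≫ f = O.ι ≫ g := by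
  haveI := isIso_stalkMap j z
  refine StalkSpread.exists_nbhd_eq q f g (hf.trans hg.symm) (j z) ?_
  rw [← cancel_epi (Spec.map (j.stalkMap z)), Scheme.SpecMap_stalkMap_fromSpecStalk_assoc,
    Scheme.SpecMap_stalkMap_fromSpecStalk_assoc, h]

/-- Morphisms agreeing on a flat preimmersed subscheme agree on a neighbourhood of it. -/
theorem exists_open_eq (f g : Y ⟶ N) (hf : f ≫ q = pY) (hg : g ≫ q = pY) (h : j ≫ f = j ≫ g) :
    ∃ O : Y.Opens, (∀ z, j z ∈ O) ∧ O.ι ≫ f = O.ι ≫ g := by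
  choose O hO hOe using fun z => exists_nhd_eq_of_comp_eq j q pY f g hf hg z h
  refine ⟨⨆ z, O z, fun z => Opens.mem_iSup.2 ⟨z, hO z⟩, ?_⟩
  refine (Scheme.Opens.iSupOpenCover O).hom_ext _ _ fun z => ?_
  simp only [Scheme.Opens.iSupOpenCover, Scheme.homOfLE_ι_assoc]
  exact hOe z

/-- Morphisms on opens agreeing on overlaps glue. -/
theorem exists_glue {I : Type u} (W : I → Y.Opens) (f : ∀ i, (W i).toScheme ⟶ N)
    (h : ∀ i k, Y.homOfLE (inf_le_left : W i ⊓ W k ≤ W i) ≫ f i = Y.homOfLE (inf_le_right : W i ⊓ W k ≤ W k) ≫ f k) :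
    ∃ F : (⨆ i, W i : Y.Opens).toScheme ⟶ N, ∀ i, Y.homOfLE (le_iSup W i) ≫ F = f i := by
  suffices hc : ∀ i k, pullback.fst ((Scheme.Opens.iSupOpenCover W).f i) ((Scheme.Opens.iSupOpenCover W).f k) ≫ f i =
      pullback.snd ((Scheme.Opens.iSupOpenCover W).f i) ((Scheme.Opens.iSupOpenCover W).f k) ≫ f k from
    ⟨(Scheme.Opens.iSupOpenCover W).glueMorphisms f hc, (Scheme.Opens.iSupOpenCover W).ι_glueMorphisms f hc⟩
  intro (i : I) (k : I)
  show pullback.fst (Y.homOfLE (le_iSup W i)) (Y.homOfLE (le_iSup W k)) ≫ f i =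
    pullback.snd (Y.homOfLE (le_iSup W i)) (Y.homOfLE (le_iSup W k)) ≫ f k
  exact (cancel_epi (isPullback_opens_inf_le (le_iSup W i) (le_iSup W k)).isoPullback.hom).1 (by simpa using h i k)

theorem comp_eq_of_fromSpecStalk (f : Y ⟶ N) (g : Z ⟶ N) (z : Z)
    (h : Y.fromSpecStalk (j z) ≫ f = haveI := isIso_stalkMap j z
      inv (Spec.map (j.stalkMap z)) ≫ Z.fromSpecStalk z ≫ g) :
    Z.fromSpecStalk z ≫ j ≫ f = Z.fromSpecStalk z ≫ g := by
  haveI := isIso_stalkMap j z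
  rw [← Scheme.SpecMap_stalkMap_fromSpecStalk_assoc, h, IsIso.hom_inv_id_assoc]

/-- A morphism from a flat preimmersed subscheme extends to a neighbourhood of it. -/
theorem exists_extension [LocallyOfFinitePresentation q] [NoetherianSpace Y] (g : Z ⟶ N) (hg : g ≫ q = j ≫ pY) :
    ∃ (G : Y.Opens) (jG : Z ⟶ G.toScheme) (f : G.toScheme ⟶ N),
      jG ≫ G.ι = j ∧ f ≫ q = G.ι ≫ pY ∧ jG ≫ f = g := by
  -- local extensions agreeing with `g` on the whole trace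
  have loc : ∀ z : Z, ∃ (W : Y.Opens), j z ∈ W ∧ ∃ f : W.toScheme ⟶ N,
      f ≫ q = W.ι ≫ pY ∧ (j ∣_ W) ≫ f = (j ⁻¹ᵁ W).ι ≫ g := by
    intro z
    haveI := isIso_stalkMap j z
    obtain ⟨W, hW, f, hf, hfq⟩ := StalkSpread.exists_extension pY q (j z)
      (inv (Spec.map (j.stalkMap z)) ≫ Z.fromSpecStalk z ≫ g) (by
        rw [Category.assoc, Category.assoc, hg, ← Scheme.SpecMap_stalkMap_fromSpecStalk_assoc, IsIso.inv_hom_id_assoc])
    have hz : z ∈ j ⁻¹ᵁ W := hW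
    have hst : (j ⁻¹ᵁ W).toScheme.fromSpecStalk ⟨z, hz⟩ ≫ (j ∣_ W) ≫ f =
        (j ⁻¹ᵁ W).toScheme.fromSpecStalk ⟨z, hz⟩ ≫ (j ⁻¹ᵁ W).ι ≫ g := by
      have e : (j ⁻¹ᵁ W).fromSpecStalkOfMem z hz ≫ (j ∣_ W) = Spec.map (j.stalkMap z) ≫ W.fromSpecStalkOfMem (j z) hW := by
        rw [← cancel_mono W.ι, Category.assoc, Category.assoc, morphismRestrict_ι, Scheme.Opens.fromSpecStalkOfMem_ι_assoc,
          Scheme.Opens.fromSpecStalkOfMem_ι, Scheme.SpecMap_stalkMap_fromSpecStalk]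
      have e2 : (j ⁻¹ᵁ W).fromSpecStalkOfMem z hz ≫ (j ∣_ W) ≫ f =
          (j ⁻¹ᵁ W).fromSpecStalkOfMem z hz ≫ (j ⁻¹ᵁ W).ι ≫ g := by
        rw [← Category.assoc, e, Category.assoc, hf, IsIso.hom_inv_id_assoc, Scheme.Opens.fromSpecStalkOfMem_ι_assoc]
      simp only [Scheme.Opens.fromSpecStalkOfMem, Category.assoc] at e2
      exact (cancel_epi _).1 e2
    obtain ⟨V, hV, hVe⟩ := StalkSpread.exists_nbhd_eq q ((j ∣_ W) ≫ f) ((j ⁻¹ᵁ W).ι ≫ g)
      (by rw [Category.assoc, hfq, morphismRestrict_ι_assoc, Category.assoc, hg]) ⟨z, hz⟩ hst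
    obtain ⟨O, hO, hOV⟩ := (IsPreimmersion.base_embedding (f := j)).toIsInducing.isOpen_iff.1
      ((j ⁻¹ᵁ W).ι ''ᵁ V).2
    let W' : Y.Opens := W ⊓ ⟨O, hO⟩
    have hle : W' ≤ W := inf_le_left
    have hzV : z ∈ ((j ⁻¹ᵁ W).ι ''ᵁ V : Z.Opens) := ⟨⟨z, hz⟩, hV, rfl⟩
    refine ⟨W', ⟨hW, (Set.ext_iff.1 hOV z).2 hzV⟩, Y.homOfLE hle ≫ f, by rw [Category.assoc, hfq, Scheme.homOfLE_ι_assoc], ?_⟩
    have hle' : j ⁻¹ᵁ W' ≤ (j ⁻¹ᵁ W).ι ''ᵁ V := fun w hw => (Set.ext_iff.1 hOV w).1 hw.2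
    have e : (j ∣_ W') ≫ Y.homOfLE hle = Z.homOfLE (fun _ h => hle h) ≫ (j ∣_ W) := by
      rw [← cancel_mono W.ι]; simp
    have e' : Z.homOfLE (fun _ h => hle h : j ⁻¹ᵁ W' ≤ j ⁻¹ᵁ W) =
        Z.homOfLE hle' ≫ ((j ⁻¹ᵁ W).ι.isoImage V).inv ≫ V.ι := by
      rw [← cancel_mono (j ⁻¹ᵁ W).ι]; simp
    rw [← Category.assoc, e, Category.assoc, e', Category.assoc, Category.assoc, hVe, Scheme.Hom.isoImage_inv_ι_assoc,
      Scheme.homOfLE_ι_assoc]
  choose W hW f hfq hfg using loc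
  -- finitely many
  obtain ⟨t, ht⟩ := (NoetherianSpace.isCompact (Set.range j)).elim_finite_subcover (fun z => (W z : Set Y))
    (fun z => (W z).2) (by rintro _ ⟨z, rfl⟩; exact Set.mem_iUnion.2 ⟨z, hW z⟩)
  -- agreement on overlaps
  have agree : ∀ a b : Z, ∃ O : Y.Opens, (∀ z, j z ∈ W a → j z ∈ W b → j z ∈ O) ∧ ∃ hOa : O ≤ W a, ∃ hOb : O ≤ W b,
      Y.homOfLE hOa ≫ f a = Y.homOfLE hOb ≫ f b := by
    intro a b
    obtain ⟨O, hO, hOe⟩ := exists_open_eq (j ∣_ (W a ⊓ W b)) q ((W a ⊓ W b).ι ≫ pY)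
      (Y.homOfLE inf_le_left ≫ f a) (Y.homOfLE inf_le_right ≫ f b)
      (by rw [Category.assoc, hfq, Scheme.homOfLE_ι_assoc]) (by rw [Category.assoc, hfq, Scheme.homOfLE_ι_assoc]) (by
        have ea : (j ∣_ (W a ⊓ W b)) ≫ Y.homOfLE inf_le_left =
            Z.homOfLE (fun _ h => h.1 : j ⁻¹ᵁ (W a ⊓ W b) ≤ j ⁻¹ᵁ W a) ≫ (j ∣_ W a) := by
          rw [← cancel_mono (W a).ι]; simp
        have eb : (j ∣_ (W a ⊓ W b)) ≫ Y.homOfLE inf_le_right =
            Z.homOfLE (fun _ h => h.2 : j ⁻¹ᵁ (W a ⊓ W b) ≤ j ⁻¹ᵁ W b) ≫ (j ∣_ W b) := by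
          rw [← cancel_mono (W b).ι]; simp
        rw [reassoc_of% ea, reassoc_of% eb, hfg, hfg, Scheme.homOfLE_ι_assoc, Scheme.homOfLE_ι_assoc])
    refine ⟨(W a ⊓ W b).ι ''ᵁ O, fun z ha hb => ⟨(j ∣_ (W a ⊓ W b)) ⟨z, ha, hb⟩, hO ⟨z, ha, hb⟩, congr($(morphismRestrict_ι j (W a ⊓ W b)) ⟨z, ha, hb⟩)⟩,
      (Scheme.Opens.ι_image_le _ O).trans inf_le_left, (Scheme.Opens.ι_image_le _ O).trans inf_le_right, ?_⟩
    have e1 := congrArg (((W a ⊓ W b).ι.isoImage O).inv ≫ ·) hOe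
    simp only [← Category.assoc] at e1
    have ha : Y.homOfLE ((Scheme.Opens.ι_image_le _ O).trans inf_le_left : (W a ⊓ W b).ι ''ᵁ O ≤ W a) =
        ((W a ⊓ W b).ι.isoImage O).inv ≫ O.ι ≫ Y.homOfLE inf_le_left := by
      rw [← cancel_mono (W a).ι]; simp
    have hb : Y.homOfLE ((Scheme.Opens.ι_image_le _ O).trans inf_le_right : (W a ⊓ W b).ι ''ᵁ O ≤ W b) =
        ((W a ⊓ W b).ι.isoImage O).inv ≫ O.ι ≫ Y.homOfLE inf_le_right := by
      rw [← cancel_mono (W b).ι]; simp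
    rw [ha, hb]
    simpa only [Category.assoc] using e1
  choose O hO hOa hOb hOe using agree
  let bad : Set Y := ⋃ a ∈ t, ⋃ b ∈ t, closure (((W a ⊓ W b : Y.Opens) : Set Y) ∩ (O a b : Set Y)ᶜ)
  have hbad : IsClosed bad := t.finite_toSet.isClosed_biUnion fun a _ =>
    t.finite_toSet.isClosed_biUnion fun b _ => isClosed_closure
  have hgood : ∀ z, j z ∉ bad := fun z hz => by
    obtain ⟨a, ha, hz⟩ := Set.mem_iUnion₂.1 hz
    obtain ⟨b, hb, hz⟩ := Set.mem_iUnion₂.1 hz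
    exact disjoint_closure j (W a ⊓ W b) _ (O a b).2.isClosed_compl (fun w hw hc => hc (hO a b w hw.1 hw.2)) z hz
  let W' : t → Y.Opens := fun a => W a ⊓ ⟨badᶜ, hbad.isOpen_compl⟩
  let fW : (a : t) → (W' a).toScheme ⟶ N := fun a => Y.homOfLE inf_le_left ≫ f a
  have key : ∀ (a b : t), Y.homOfLE (inf_le_left : W' a ⊓ W' b ≤ W' a) ≫ fW a =
      Y.homOfLE (inf_le_right : W' a ⊓ W' b ≤ W' b) ≫ fW b := by
    intro a b
    have hVO : W' a ⊓ W' b ≤ O a b := fun y hy => by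
      by_contra hn
      exact hy.1.2 (Set.mem_biUnion a.2 (Set.mem_biUnion b.2 (subset_closure ⟨⟨hy.1.1, hy.2.1⟩, hn⟩)))
    have := congrArg (Y.homOfLE hVO ≫ ·) (hOe a b)
    simpa only [fW, Scheme.homOfLE_homOfLE_assoc] using this
  obtain ⟨fG, hfG⟩ := exists_glue W' fW key
  let G : Y.Opens := ⨆ a, W' a
  have hmem : ∀ z : Z, j z ∈ G := fun z => by
    obtain ⟨a, ha, hza⟩ := Set.mem_iUnion₂.1 (ht ⟨z, rfl⟩)
    exact Opens.mem_iSup.2 ⟨⟨a, ha⟩, hza, hgood z⟩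
  let jG : Z ⟶ G.toScheme := IsOpenImmersion.lift G.ι j (by
    rintro _ ⟨z, rfl⟩; rw [Scheme.Opens.range_ι]; exact hmem z)
  have hjG : jG ≫ G.ι = j := IsOpenImmersion.lift_fac _ _ _
  refine ⟨G, jG, fG, hjG, ?_, ?_⟩
  · refine (Scheme.Opens.iSupOpenCover W').hom_ext _ _ fun a => ?_
    show Y.homOfLE (le_iSup W' a) ≫ fG ≫ q = Y.homOfLE (le_iSup W' a) ≫ G.ι ≫ pY
    rw [reassoc_of% hfG a, Category.assoc, hfq, Scheme.homOfLE_ι_assoc, Scheme.homOfLE_ι_assoc]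
  let cz : t → Z.Opens := fun a => j ⁻¹ᵁ W' a
  have hcz : IsOpenCover cz := top_le_iff.1 fun z _ => by
    obtain ⟨a, ha⟩ := Opens.mem_iSup.1 (hmem z)
    exact Opens.mem_iSup.2 ⟨a, ha⟩
  refine (Z.openCoverOfIsOpenCover cz hcz).hom_ext _ _ fun (a : t) => ?_
  show (cz a).ι ≫ jG ≫ fG = (cz a).ι ≫ g
  have e : (cz a).ι ≫ jG = (j ∣_ W' a) ≫ Y.homOfLE (le_iSup W' a) := by
    rw [← cancel_mono G.ι, Category.assoc, hjG, Category.assoc, Scheme.homOfLE_ι, morphismRestrict_ι]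
  have e' : (j ∣_ W' a) ≫ Y.homOfLE (inf_le_left : W' a ≤ W a) =
      Z.homOfLE (fun _ h => h.1 : j ⁻¹ᵁ W' a ≤ j ⁻¹ᵁ W a) ≫ (j ∣_ W a) := by
    rw [← cancel_mono (W a).ι]; simp
  rw [reassoc_of% e, hfG, reassoc_of% e', hfg, Scheme.homOfLE_ι_assoc]

end Groth.Agent.SpecStalk27
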